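import Mathlib

/-!
Spreading out algebra maps from a local ring to a basic open.
-/

namespace Groth.Agent.SpreadLib

universe u

variable {R S T : Type u} [CommRing R] [CommRing S] [CommRing T] [Algebra R S] [Algebra R T]

/-- A map from a finitely presented algebra to a local ring of `T` is defined on a basic open. -/
theorem exists_lift_away [Algebra.FinitePresentation R S] (P : Ideal T) [P.IsPrime]
    (f : S →ₐ[R] Localization.AtPrime P) :
    ∃ g : T, g ∉ P ∧ ∃ φ : S →ₐ[R] Localization.Away g, ∀ (can : Localization.Away g →ₐ[T] Localization.AtPrime P) (x : S),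
      can (φ x) = f x := by
  classical
  obtain ⟨n, π, hπ, s, hs⟩ := Algebra.FinitePresentation.out (R := R) (A := S)
  choose a b hab using fun i => IsLocalization.exists_mk'_eq P.primeCompl (f (π (MvPolynomial.X i)))
  let g₁ : T := ∏ i, (b i : T)
  have hg₁ : g₁ ∉ P := Submonoid.prod_mem P.primeCompl fun i _ => (b i).2
  have hub : ∀ i, IsUnit (algebraMap T (Localization.Away g₁) (b i)) := fun i =>
    isUnit_of_dvd_unit (map_dvd _ (Finset.dvd_prod_of_mem (fun j => (b j : T)) (Finset.mem_univ i)))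
      (IsLocalization.Away.algebraMap_isUnit g₁)
  let φ₀ : MvPolynomial (Fin n) R →ₐ[R] Localization.Away g₁ :=
    MvPolynomial.aeval fun i => algebraMap T (Localization.Away g₁) (a i) * ↑(hub i).unit⁻¹
  have hu1 : ∀ y : Submonoid.powers g₁, IsUnit (algebraMap T (Localization.AtPrime P) y) := fun y => by
    obtain ⟨k, hk⟩ := y.2
    exact IsLocalization.map_units _ (⟨(y : T), hk ▸ Submonoid.pow_mem P.primeCompl hg₁ k⟩ : P.primeCompl)
  let c₁ : Localization.Away g₁ →ₐ[T] Localization.AtPrime P :=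
    IsLocalization.liftAlgHom (M := Submonoid.powers g₁) (f := Algebra.ofId T _) hu1
  have hc₁ : ∀ p, c₁ (φ₀ p) = f (π p) := by
    intro p
    refine DFunLike.congr_fun (?_ : (c₁.restrictScalars R).comp φ₀ = f.comp π) p
    refine MvPolynomial.algHom_ext fun i => ?_
    show c₁ (φ₀ (MvPolynomial.X i)) = f (π (MvPolynomial.X i))
    rw [← hab, IsLocalization.eq_mk'_iff_mul_eq]
    show c₁ (φ₀ (MvPolynomial.X i)) * _ = _
    rw [← c₁.commutes (b i : T), ← map_mul, MvPolynomial.aeval_X, mul_assoc, IsUnit.val_inv_mul, mul_one, c₁.commutes]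
  have hker : ∀ r ∈ s, ∃ t : T, t ∉ P ∧ algebraMap T (Localization.Away g₁) t * φ₀ r = 0 := by
    intro r hr
    obtain ⟨z, w, hzw⟩ := IsLocalization.exists_mk'_eq (Submonoid.powers g₁) (φ₀ r)
    have hr0 : π r = 0 := RingHom.mem_ker.1 (hs ▸ Ideal.subset_span hr)
    have hz0 : algebraMap T (Localization.AtPrime P) z = 0 := by
      rw [← c₁.commutes z, ← IsLocalization.mk'_spec (Localization.Away g₁) z w, map_mul, hzw, hc₁, hr0, map_zero, zero_mul]
    obtain ⟨t, ht⟩ := (IsLocalization.map_eq_zero_iff P.primeCompl _ z).1 hz0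
    refine ⟨t, t.2, ?_⟩
    rw [← hzw, IsLocalization.mul_mk'_eq_mk'_of_mul, ht, IsLocalization.mk'_zero]
  choose t ht ht0 using hker
  let g : T := g₁ * ∏ r ∈ s.attach, t r.1 r.2
  have hg : g ∉ P := P.primeCompl.mul_mem hg₁ (Submonoid.prod_mem P.primeCompl fun r _ => ht r.1 r.2)
  have hu2 : ∀ y : Submonoid.powers g₁, IsUnit (algebraMap T (Localization.Away g) y) := fun y => by
    obtain ⟨k, hk⟩ := y.2
    rw [← hk, map_pow]
    exact (isUnit_of_dvd_unit (map_dvd _ (dvd_mul_right _ _)) (IsLocalization.Away.algebraMap_isUnit g)).pow k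
  let c₂ : Localization.Away g₁ →ₐ[T] Localization.Away g :=
    IsLocalization.liftAlgHom (M := Submonoid.powers g₁) (f := Algebra.ofId T _) hu2
  let φ₁ : MvPolynomial (Fin n) R →ₐ[R] Localization.Away g := (c₂.restrictScalars R).comp φ₀
  have hle : RingHom.ker π.toRingHom ≤ RingHom.ker φ₁.toRingHom := by
    rw [← hs, Submodule.span_le]
    intro r hr
    have h0 := congrArg c₂ (ht0 r hr)
    rw [map_mul, map_zero, c₂.commutes] at h0
    have hut : IsUnit (algebraMap T (Localization.Away g) (t r hr)) :=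
      isUnit_of_dvd_unit (map_dvd _ ((Finset.dvd_prod_of_mem (fun z : s => t z.1 z.2) (Finset.mem_attach s ⟨r, hr⟩)).trans (dvd_mul_left _ _)))
        (IsLocalization.Away.algebraMap_isUnit g)
    exact hut.mul_right_eq_zero.1 h0
  refine ⟨g, hg, AlgHom.liftOfSurjective π hπ φ₁ hle, fun can x => ?_⟩
  obtain ⟨p, rfl⟩ := hπ x
  rw [AlgHom.liftOfSurjective_apply]
  show can (c₂ (φ₀ p)) = _
  rw [← hc₁]
  exact DFunLike.congr_fun (IsLocalization.algHom_ext (Submonoid.powers g₁) (Subsingleton.elim _ _) : can.comp c₂ = c₁) _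

/-- Isomorphic local rings of finitely presented algebras have isomorphic neighbourhoods. -/
theorem exists_algEquiv_away [Algebra.FinitePresentation R S] [Algebra.FinitePresentation R T]
    (q : Ideal S) [q.IsPrime] (P : Ideal T) [P.IsPrime] (e : Localization.AtPrime q ≃ₐ[R] Localization.AtPrime P) :
    ∃ (g : S) (g' : T), g ∉ q ∧ g' ∉ P ∧ Nonempty (Localization.Away g ≃ₐ[R] Localization.Away g') := by
  classical
  obtain ⟨g', hg', φ, hφ⟩ := exists_lift_away P
    (e.toAlgHom.comp (IsScalarTower.toAlgHom R S (Localization.AtPrime q)))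
  let T₁ := Localization.Away g'
  letI : Algebra S T₁ := φ.toRingHom.toAlgebra
  haveI : IsScalarTower R S T₁ := IsScalarTower.of_algebraMap_eq fun r => (φ.commutes r).symm
  haveI : Algebra.FinitePresentation R T₁ := Algebra.FinitePresentation.trans R T T₁
  haveI : Algebra.FinitePresentation S T₁ := Algebra.FinitePresentation.of_restrict_scalars_finitePresentation R S T₁
  have hu' : ∀ y : Submonoid.powers g', IsUnit (algebraMap T (Localization.AtPrime P) y) := fun y => by
    obtain ⟨k, hk⟩ := y.2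
    exact IsLocalization.map_units _ (⟨(y : T), hk ▸ Submonoid.pow_mem P.primeCompl hg' k⟩ : P.primeCompl)
  let can : T₁ →ₐ[T] Localization.AtPrime P :=
    IsLocalization.liftAlgHom (M := Submonoid.powers g') (f := Algebra.ofId T _) hu'
  let β : T₁ →ₐ[S] Localization.AtPrime q :=
    { (e.symm.toAlgHom.comp (can.restrictScalars R)).toRingHom with
      commutes' := fun x => by
        show e.symm (can (φ x)) = _
        rw [hφ]; exact e.symm_apply_apply _ }
  obtain ⟨r, hr, ψ, hψ⟩ := exists_lift_away (R := S) (S := T₁) q β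
  have huT : ∀ y : T₁, IsUnit (can y) ↔ IsUnit (β y) := fun y => ((MulEquiv.isUnit_map e.symm)).symm
  let u : T₁ := algebraMap S T₁ r
  let T₂ := Localization.Away u
  let ι : Localization.Away r →ₐ[S] T₂ := IsLocalization.liftAlgHom (M := Submonoid.powers r) (f := Algebra.ofId S T₂) fun y => by
    obtain ⟨k, hk⟩ := y.2
    show IsUnit (algebraMap S T₂ y)
    rw [← hk, map_pow, IsScalarTower.algebraMap_apply S T₁ T₂]
    exact (IsLocalization.Away.algebraMap_isUnit u).pow k
  let j : T₁ →ₐ[S] T₂ := IsScalarTower.toAlgHom S T₁ T₂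
  let cr : Localization.Away r →ₐ[S] Localization.AtPrime q :=
    IsLocalization.liftAlgHom (M := Submonoid.powers r) (f := Algebra.ofId S _) fun y => by
      obtain ⟨k, hk⟩ := y.2
      exact IsLocalization.map_units _ (⟨(y : S), hk ▸ Submonoid.pow_mem q.primeCompl hr k⟩ : q.primeCompl)
  -- the discrepancy of `ι ∘ ψ` and `j` dies at `P`
  have hkill : ∀ x : T₁, ∃ t : T₁, IsUnit (can t) ∧ algebraMap T₁ T₂ t * (ι (ψ x) - j x) = 0 := by
    intro x
    have huc : IsUnit (can u) := (huT u).2 (by
      rw [show β u = algebraMap S _ r from β.commutes r]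
      exact IsLocalization.map_units (Localization.AtPrime q) (⟨r, hr⟩ : q.primeCompl))
    let c₂ : T₂ →+* Localization.AtPrime P := IsLocalization.Away.lift u huc
    have hc₂ : ∀ y, c₂ (algebraMap T₁ T₂ y) = can y := fun y => IsLocalization.Away.lift_eq u huc y
    have hcι : ∀ z : Localization.Away r, c₂ (ι z) = e (cr z) := by
      intro z
      refine DFunLike.congr_fun (?_ : c₂.comp ι.toRingHom = e.toAlgHom.toRingHom.comp cr.toRingHom) z
      refine IsLocalization.ringHom_ext (Submonoid.powers r) (RingHom.ext fun a => ?_)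
      show c₂ (ι (algebraMap S _ a)) = e (cr (algebraMap S _ a))
      rw [ι.commutes, cr.commutes, IsScalarTower.algebraMap_apply S T₁ T₂, hc₂]
      exact hφ can a
    have h0 : c₂ (ι (ψ x) - j x) = 0 := by
      rw [map_sub, hcι, hψ cr, show j x = algebraMap T₁ T₂ x from rfl, hc₂]
      exact sub_eq_zero.2 (e.apply_symm_apply _)
    obtain ⟨z, w, hzw⟩ := IsLocalization.exists_mk'_eq (Submonoid.powers u) (ι (ψ x) - j x)
    have hz : can z = 0 := by
      rw [← hc₂, ← IsLocalization.mk'_spec T₂ z w, map_mul, hzw, h0, zero_mul]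
    obtain ⟨zT, v, hv⟩ := IsLocalization.exists_mk'_eq (Submonoid.powers g') z
    have hzT : algebraMap T (Localization.AtPrime P) zT = 0 := by
      rw [← can.commutes zT, ← IsLocalization.mk'_spec T₁ zT v, map_mul, hv, hz, zero_mul]
    obtain ⟨t, ht⟩ := (IsLocalization.map_eq_zero_iff P.primeCompl _ zT).1 hzT
    refine ⟨algebraMap T T₁ t, by rw [can.commutes]; exact IsLocalization.map_units _ t, ?_⟩
    have h2 : algebraMap T T₁ t * z = 0 := by
      rw [← hv, IsLocalization.mul_mk'_eq_mk'_of_mul, ht, IsLocalization.mk'_zero]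
    rw [← hzw, IsLocalization.mul_mk'_eq_mk'_of_mul, h2, IsLocalization.mk'_zero]
  obtain ⟨X, hX⟩ := Algebra.FiniteType.out (R := S) (A := T₁)
  choose t ht ht0 using hkill
  let τ : T₁ := ∏ x ∈ X, t x
  have hτ : IsUnit (can τ) := by
    rw [map_prod]
    exact Finset.prod_induction _ IsUnit (fun _ _ => IsUnit.mul) isUnit_one fun x _ => ht x
  -- a numerator for `ψ τ`
  obtain ⟨c, w, hcw⟩ := IsLocalization.exists_mk'_eq (Submonoid.powers r) (ψ τ)
  have hc : c ∉ q := by
    have h1 : IsUnit (cr (ψ τ)) := by rw [hψ cr]; exact (huT τ).1 hτ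
    have h2 : IsUnit (algebraMap S (Localization.AtPrime q) c) := by
      rw [← cr.commutes c, ← IsLocalization.mk'_spec (Localization.Away r) c w, hcw, map_mul, cr.commutes]
      obtain ⟨k, hk⟩ := w.2
      exact h1.mul (IsLocalization.map_units _ (⟨(w : S), hk ▸ Submonoid.pow_mem q.primeCompl hr k⟩ : q.primeCompl))
    exact (IsLocalization.AtPrime.isUnit_to_map_iff (Localization.AtPrime q) q c).1 h2
  let g : S := r * c
  have hg : g ∉ q := q.primeCompl.mul_mem hr hc
  -- the open piece of `T`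
  let u' : T₁ := algebraMap S T₁ g * τ
  obtain ⟨aT, v, hv⟩ := IsLocalization.exists_mk'_eq (Submonoid.powers g') u'
  let b : T₁ := algebraMap T T₁ aT
  have hbu : ∃ vv : T₁, IsUnit vv ∧ b = u' * vv :=
    ⟨algebraMap T T₁ v, IsLocalization.map_units T₁ v, by rw [← hv, IsLocalization.mk'_spec]⟩
  obtain ⟨vv, hvv, hb⟩ := hbu
  let T₃ := Localization.Away b
  have hub := (congrArg (fun z => IsUnit (algebraMap T₁ T₃ z)) hb).mp (IsLocalization.Away.algebraMap_isUnit b)
  simp only [u', g, map_mul, IsUnit.mul_iff] at hub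
  obtain ⟨⟨⟨hr3, hc3⟩, hτ3⟩, -⟩ := hub
  let Φ : Localization.Away g →ₐ[S] T₃ := IsLocalization.liftAlgHom (M := Submonoid.powers g) (f := Algebra.ofId S T₃) fun y => by
    obtain ⟨k, hk⟩ := y.2
    show IsUnit (algebraMap S T₃ y)
    rw [← hk, map_pow, IsScalarTower.algebraMap_apply S T₁ T₃, map_mul, map_mul]
    exact (hr3.mul hc3).pow k
  let lr : Localization.Away r →ₐ[S] Localization.Away g :=
    IsLocalization.liftAlgHom (M := Submonoid.powers r) (f := Algebra.ofId S _) fun y => by
      obtain ⟨k, hk⟩ := y.2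
      show IsUnit (algebraMap S (Localization.Away g) y)
      rw [← hk, map_pow]
      exact (isUnit_of_dvd_unit (map_dvd _ (dvd_mul_right _ _)) (IsLocalization.Away.algebraMap_isUnit g)).pow k
  let ψ₁ : T₁ →ₐ[S] Localization.Away g := lr.comp ψ
  have hg1 : IsUnit (algebraMap S (Localization.Away g) g) := IsLocalization.Away.algebraMap_isUnit g
  have hψτ : IsUnit (ψ₁ τ) := by
    have h1 : IsUnit (algebraMap S (Localization.Away g) c) := isUnit_of_dvd_unit (map_dvd _ (dvd_mul_left _ _)) hg1
    have h2 : ψ₁ τ * algebraMap S (Localization.Away g) w = algebraMap S (Localization.Away g) c := by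
      show lr (ψ τ) * _ = _
      rw [← lr.commutes (w : S), ← map_mul, ← hcw, IsLocalization.mk'_spec, lr.commutes]
    rw [← h2] at h1
    exact (IsUnit.mul_iff.1 h1).1
  have hψb : IsUnit (ψ₁ b) := by
    rw [hb, map_mul, map_mul, AlgHom.commutes]
    exact (hg1.mul hψτ).mul (hvv.map ψ₁)
  let Ψ : T₃ →ₐ[S] Localization.Away g := IsLocalization.liftAlgHom (M := Submonoid.powers b) (f := ψ₁) fun y => by
    obtain ⟨k, hk⟩ := y.2
    rw [← hk, map_pow]; exact hψb.pow k
  have h12 : Φ.comp Ψ = AlgHom.id S T₃ := by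
    refine IsLocalization.algHom_ext (Submonoid.powers b) ?_
    refine AlgHom.ext_of_adjoin_eq_top hX fun x hx => ?_
    show Φ (Ψ (algebraMap T₁ T₃ x)) = algebraMap T₁ T₃ x
    rw [show Ψ (algebraMap T₁ T₃ x) = ψ₁ x from IsLocalization.lift_eq _ x]
    -- push the identity from `T₂` to `T₃`
    let l₂ : T₂ →ₐ[T₁] T₃ := IsLocalization.liftAlgHom (M := Submonoid.powers u) (f := Algebra.ofId T₁ T₃) fun y => by
      obtain ⟨k, hk⟩ := y.2
      show IsUnit (algebraMap T₁ T₃ y)
      rw [← hk, map_pow]; exact hr3.pow k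
    have hcomm : (Φ.comp lr) = (l₂.restrictScalars S).comp ι := IsLocalization.algHom_ext (Submonoid.powers r) (Subsingleton.elim _ _)
    have h0 := congrArg l₂ (ht0 x)
    rw [map_mul, map_zero, map_sub, l₂.commutes] at h0
    have htx : IsUnit (algebraMap T₁ T₃ (t x)) := isUnit_of_dvd_unit (map_dvd _ (Finset.dvd_prod_of_mem t hx)) hτ3
    have h1 := sub_eq_zero.1 (htx.mul_right_eq_zero.1 h0)
    rw [show l₂ (j x) = algebraMap T₁ T₃ x from l₂.commutes x] at h1
    exact (DFunLike.congr_fun hcomm (ψ x)).trans h1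
  have h21 : Ψ.comp Φ = AlgHom.id S _ := IsLocalization.algHom_ext (Submonoid.powers g) (Subsingleton.elim _ _)
  haveI : IsLocalization.Away (g' * aT) T₃ := IsLocalization.Away.mul' T₁ T₃ g' aT
  have haT : aT ∉ P := by
    intro h
    have hu2 : IsUnit (can b) := by
      rw [hb, map_mul, map_mul]
      refine ((?_ : IsUnit (can (algebraMap S T₁ g))).mul hτ).mul (hvv.map can)
      rw [show can (algebraMap S T₁ g) = e (algebraMap S _ g) from hφ can g]
      exact (IsLocalization.map_units (Localization.AtPrime q) (⟨g, hg⟩ : q.primeCompl)).map e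
    rw [show can b = algebraMap T (Localization.AtPrime P) aT from can.commutes aT] at hu2
    exact (IsLocalization.AtPrime.isUnit_to_map_iff (Localization.AtPrime P) P aT).1 hu2 h
  exact ⟨g, g' * aT, hg, P.primeCompl.mul_mem hg' haT,
    ⟨((AlgEquiv.ofAlgHom Φ Ψ h12 h21).restrictScalars R).trans
      ((IsLocalization.algEquiv (Submonoid.powers (g' * aT)) T₃ (Localization.Away (g' * aT))).restrictScalars R)⟩⟩

end Groth.Agent.SpreadLib
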